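import Cfsg.Agent.Lib.Spor.MajoranaCommuting

/-! Basic facts about a Majorana axis and the vector `a y - (a + y) / 32`. -/

set_option autoImplicit false
set_option linter.unusedSectionVars false

namespace Cfsg.Agent.Block.Sakuma

open Cfsg Cfsg.Axial Cfsg.Agent.Spor.Majorana

variable {V : Type*} [AddCommGroup V] [Module ℝ V]

/-- An axis of unit length with its involution, in the ambient setting. -/
structure Axis (mul : V →ₗ[ℝ] V →ₗ[ℝ] V) (B : LinearMap.BilinForm ℝ V) (t : V ≃ₗ[ℝ] V) (a : V) : Prop where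
  pair : IsMajoranaPair mul B t a
  amb : IsMajoranaAmbient mul B
  norm : B a a = 1

/-- The vector `a y - (a + y) / 32`. -/
noncomputable def sg (mul : V →ₗ[ℝ] V →ₗ[ℝ] V) (a y : V) : V := mul a y - (1 / 32 : ℝ) • (a + y)

variable {mul : V →ₗ[ℝ] V →ₗ[ℝ] V} {B : LinearMap.BilinForm ℝ V}

theorem law0b : monsterLaw (1 / 4 : ℝ) (1 / 32) 0 (1 / 32) = {1 / 32} := by
  unfold monsterLaw; norm_num

theorem mul_eq_sg (a y : V) : mul a y = sg mul a y + (1 / 32 : ℝ) • (a + y) := by
  rw [sg, sub_add_cancel]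

theorem sg_comm (hV : IsMajoranaAmbient mul B) (a y : V) : sg mul a y = sg mul y a := by
  rw [sg, sg, hV.1 a y, add_comm a y]

namespace Axis

variable {t : V ≃ₗ[ℝ] V} {a : V} (h : Axis mul B t a)
include h

theorem idem : mul a a = a := h.pair.2.2.1.1.2.1
theorem comm (u v : V) : mul u v = mul v u := h.amb.1 u v
theorem symm (u v : V) : B u v = B v u := h.amb.2.1 u v
theorem assoc (u v w : V) : B u (mul v w) = B (mul u v) w := h.amb.2.2.2.1 u v w
theorem map_mul (u v : V) : t (mul u v) = mul (t u) (t v) := h.pair.1 u v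
theorem map_form (u v : V) : B (t u) (t v) = B u v := h.pair.2.1 u v

theorem fix_self : t a = a := by
  refine h.pair.2.2.2.1 a (le_eigenSum (c := 1) (by simp) ?_)
  rw [mem_eigen, h.idem, one_smul]

theorem decomp (x : V) : ∃ u w : V, x = u + w ∧ t u = u ∧ t w = -w ∧ mul a w = (1 / 32 : ℝ) • w := by
  obtain ⟨-, -, ⟨⟨-, -, htop, -⟩, hprim⟩, hfix, hneg⟩ := h.pair
  have hxm : x ∈ eigenSum mul a majoranaSpectrum := htop ▸ Submodule.mem_top
  rw [eigenSum, majoranaSpectrum, iSup_insert, iSup_insert, iSup_insert, iSup_singleton] at hxm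
  obtain ⟨y, hy, w₁, hw₁, rfl⟩ := Submodule.mem_sup.mp hxm
  obtain ⟨u, hu, w₂, hw₂, rfl⟩ := Submodule.mem_sup.mp hw₁
  obtain ⟨v, hv, r, hr, rfl⟩ := Submodule.mem_sup.mp hw₂
  refine ⟨y + u + v, r, by abel, ?_, hneg r hr, mem_eigen.mp hr⟩
  have f1 : t y = y := hfix y (le_eigenSum (by simp) hy)
  have f2 : t u = u := hfix u (le_eigenSum (by simp) hu)
  have f3 : t v = v := hfix v (le_eigenSum (by simp) hv)
  rw [map_add, map_add, f1, f2, f3]

theorem invol (x : V) : t (t x) = x := by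
  obtain ⟨u, w, rfl, hu, hw, -⟩ := h.decomp x
  rw [map_add, hu, hw, map_add, map_neg, hu, hw, neg_neg]

theorem mul_self' : t * t = 1 := LinearEquiv.ext fun x => h.invol x

theorem symm_eq : t.symm = t := LinearEquiv.ext fun x => t.injective (by rw [t.apply_symm_apply, h.invol])

theorem mul_diff (y : V) : mul a y - mul a (t y) = (1 / 32 : ℝ) • (y - t y) := by
  obtain ⟨u, w, rfl, hu, hw, haw⟩ := h.decomp y
  rw [map_add, map_add, hu, hw, map_add, map_neg, haw]
  module

theorem sg_map (y : V) : sg mul a (t y) = sg mul a y := by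
  have := h.mul_diff y
  rw [sg, sg]
  linear_combination (norm := module) -this

theorem fix_sg (y : V) : t (sg mul a y) = sg mul a y := by
  conv_rhs => rw [← h.sg_map y]
  rw [sg, sg, map_sub, map_smul, map_add, h.map_mul, h.fix_self]

theorem form_map (u x : V) (hu : t u = u) : B u (t x) = B u x := by
  conv_lhs => rw [← hu]
  exact h.map_form u x

theorem form_mul (x : V) : B a (mul a x) = B a x := by rw [h.assoc, h.idem]

theorem form_sg (y : V) : B a (sg mul a y) = 31 / 32 * B a y - 1 / 32 := by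
  rw [sg, map_sub, map_smul, map_add, h.form_mul, h.norm, smul_eq_mul]; ring

/-- The decomposition of a fixed vector, with the coefficient computed. -/
theorem split {x : V} (hx : t x = x) : ∃ u v : V, x = B a x • a + u + v ∧ mul a u = 0 ∧
    mul a v = (1 / 4 : ℝ) • v := by
  obtain ⟨p, u, v, e, hu, hv⟩ := decompose h.pair hx
  refine ⟨u, v, ?_, hu, hv⟩
  have e1 : B a u = 0 := by rw [← h.form_mul u, hu, map_zero]
  have e2 : B a v = 0 := by
    have := h.form_mul v
    rw [hv, map_smul, smul_eq_mul] at this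
    linarith
  have e3 : B a x = p := by
    rw [e, map_add, map_add, map_smul, h.norm, e1, e2, smul_eq_mul]; ring
  rw [e3]; exact e

/-- The action of an axis on the fixed vector `a (y + t y)`. -/
theorem mul_sg (y : V) : mul a (sg mul a y) = (7 / 32 : ℝ) • sg mul a y + (7 / 2048 : ℝ) • (y + t y)
    + (3 / 4 * B a y - 25 / 1024 : ℝ) • a := by
  have hx : t (y + t y) = y + t y := by rw [map_add, h.invol, add_comm]
  obtain ⟨u, v, e, hu, hv⟩ := h.split hx
  have hl : B a (y + t y) = 2 * B a y := by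
    rw [map_add, h.form_map a y h.fix_self]; ring
  rw [hl] at e
  have e1 : mul a (y + t y) = (2 * B a y) • a + (1 / 4 : ℝ) • v := by
    conv_lhs => rw [e]
    rw [map_add, map_add, map_smul, h.idem, hu, hv, add_zero]
  have e2 : mul a (mul a (y + t y)) = (2 * B a y) • a + (1 / 16 : ℝ) • v := by
    rw [e1, map_add, map_smul, map_smul, h.idem, hv, smul_smul]; norm_num
  have e3 : mul a (y + t y) = (2 : ℝ) • sg mul a y + (1 / 16 : ℝ) • a + (1 / 32 : ℝ) • (y + t y) := by
    rw [map_add, mul_eq_sg a y, mul_eq_sg a (t y), h.sg_map]; module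
  have e4 : mul a (mul a (y + t y)) = (2 : ℝ) • mul a (sg mul a y) + (1 / 16 : ℝ) • a
      + (1 / 32 : ℝ) • mul a (y + t y) := by
    conv_lhs => rw [e3]
    rw [map_add, map_add, map_smul, map_smul, map_smul, h.idem]
  linear_combination (norm := module) -(1 / 2 : ℝ) • e4 + (1 / 2 : ℝ) • e2
    - (1 / 8 : ℝ) • e1 + (7 / 64 : ℝ) • e3

theorem fus {c d : ℝ} (hc : c ∈ majoranaSpectrum) (hd : d ∈ majoranaSpectrum) {u v : V}
    (hu : mul a u = c • u) (hv : mul a v = d • v) :
    mul u v ∈ eigenSum mul a (monsterLaw (1 / 4) (1 / 32) c d) :=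
  h.pair.2.2.1.1.2.2.2 c hc d hd u (mem_eigen.mpr hu) v (mem_eigen.mpr hv)

theorem fus00 {u : V} (hu : mul a u = 0) : mul a (mul u u) = 0 := by
  have := h.fus (c := 0) (d := 0) (by simp [majoranaSpectrum]) (by simp [majoranaSpectrum])
    (u := u) (v := u) (by rw [hu, zero_smul]) (by rw [hu, zero_smul])
  rw [law00, eigenSum_singleton, mem_eigen, zero_smul] at this
  exact this

theorem fus04 {u v : V} (hu : mul a u = 0) (hv : mul a v = (1 / 4 : ℝ) • v) :
    mul a (mul u v) = (1 / 4 : ℝ) • mul u v := by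
  have := h.fus (c := 0) (d := 1 / 4) (by simp [majoranaSpectrum]) (by simp [majoranaSpectrum])
    (u := u) (v := v) (by rw [hu, zero_smul]) hv
  rw [law04, eigenSum_singleton, mem_eigen] at this
  exact this

theorem fus44 {v : V} (hv : mul a v = (1 / 4 : ℝ) • v) :
    mul a (mul v v) = (1 / 4 * B v v) • a := by
  have := h.fus (c := 1 / 4) (d := 1 / 4) (by simp [majoranaSpectrum]) (by simp [majoranaSpectrum])
    (u := v) (v := v) hv hv
  rw [law44, eigenSum_pair, h.pair.2.2.1.2, Submodule.mem_sup] at this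
  obtain ⟨y, hy, w, hw, e⟩ := this
  obtain ⟨q, rfl⟩ := Submodule.mem_span_singleton.mp hy
  rw [mem_eigen, zero_smul] at hw
  have hw0 : B a w = 0 := by rw [← h.form_mul w, hw, map_zero]
  have hq : q = 1 / 4 * B v v := by
    have e' : B a (mul v v) = q := by
      rw [← e, map_add, map_smul, h.norm, hw0, smul_eq_mul]; ring
    rw [← e', h.assoc, hv, map_smul, LinearMap.smul_apply, smul_eq_mul]
  rw [← e, map_add, map_smul, h.idem, hw, add_zero, hq]

end Axis

/-- The involution is determined by the axis. -/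
theorem Axis.unique {t t' : V ≃ₗ[ℝ] V} {a : V} (h : Axis mul B t a) (h' : Axis mul B t' a) : t = t' := by
  refine LinearEquiv.ext fun x => ?_
  obtain ⟨-, -, ⟨⟨-, -, htop, -⟩, -⟩, hfix, hneg⟩ := h.pair
  obtain ⟨-, -, -, hfix', hneg'⟩ := h'.pair
  have hxm : x ∈ eigenSum mul a majoranaSpectrum := htop ▸ Submodule.mem_top
  rw [eigenSum, majoranaSpectrum, iSup_insert, iSup_insert, iSup_insert, iSup_singleton] at hxm
  obtain ⟨y, hy, w₁, hw₁, rfl⟩ := Submodule.mem_sup.mp hxm
  obtain ⟨u, hu, w₂, hw₂, rfl⟩ := Submodule.mem_sup.mp hw₁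
  obtain ⟨v, hv, r, hr, rfl⟩ := Submodule.mem_sup.mp hw₂
  have k : ∀ (f : V ≃ₗ[ℝ] V), (∀ z ∈ eigenSum mul a ({1, 0, 1 / 4} : Set ℝ), f z = z) →
      (∀ z ∈ eigen mul a (1 / 32 : ℝ), f z = -z) → f (y + (u + (v + r))) = y + (u + (v + -r)) :=
    fun f hf hn => by
      rw [map_add, map_add, map_add, hf y (le_eigenSum (by simp) hy),
        hf u (le_eigenSum (by simp) hu), hf v (le_eigenSum (by simp) hv), hn r hr]
  exact (k t hfix hneg).trans (k t' hfix' hneg').symm

/-- Conjugating an axis. -/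
theorem Axis.conj {t g : V ≃ₗ[ℝ] V} {a : V} (h : Axis mul B t a)
    (hg : ∀ u v : V, g (mul u v) = mul (g u) (g v)) (hB : ∀ u v : V, B (g u) (g v) = B u v) :
    Axis mul B (g * t * g⁻¹) (g a) := by
  obtain ⟨⟨h1, h2, ⟨⟨ha0, haa, htop, hfus⟩, hprim⟩, hfix, hneg⟩, hV, hn⟩ := h
  have hg' : ∀ u v : V, g⁻¹ (mul u v) = mul (g⁻¹ u) (g⁻¹ v) := fun u v => g.injective (by
    rw [hg]
    show g (g.symm _) = mul (g (g.symm _)) (g (g.symm _))
    simp)
  have hB' : ∀ u v : V, B (g⁻¹ u) (g⁻¹ v) = B u v := fun u v => by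
    rw [← hB]
    show B (g (g.symm _)) (g (g.symm _)) = _
    simp
  have he : ∀ c, eigen mul (g a) c = (eigen mul a c).map (g : V →ₗ[ℝ] V) := fun c => by
    ext x
    rw [Submodule.mem_map_equiv, mem_eigen, mem_eigen]
    conv_lhs => rw [← g.apply_symm_apply x, ← hg, ← map_smul, g.injective.eq_iff]
  have hs : ∀ S, eigenSum mul (g a) S = (eigenSum mul a S).map (g : V →ₗ[ℝ] V) := fun S => by
    simp only [eigenSum, Submodule.map_iSup, he]
  refine ⟨⟨fun u v => ?_, fun u v => ?_,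
    ⟨⟨fun e => ha0 (g.injective (e.trans (map_zero g).symm)), by rw [← hg, haa], ?_, ?_⟩, ?_⟩, ?_, ?_⟩,
    hV, by rw [hB, hn]⟩
  · simp only [LinearEquiv.mul_apply, hg', h1, hg]
  · simp only [LinearEquiv.mul_apply, hB, h2, hB']
  · rw [hs, htop, Submodule.map_top, LinearEquiv.range]
  · intro c hc d hd u hu v hv
    rw [he] at hu hv
    obtain ⟨u, hu, rfl⟩ := hu
    obtain ⟨v, hv, rfl⟩ := hv
    rw [hs]
    exact ⟨mul u v, hfus c hc d hd u hu v hv, hg u v⟩
  · rw [he, hprim, Submodule.map_span, Set.image_singleton]; rfl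
  · intro v hv
    rw [hs] at hv
    obtain ⟨v, hv, rfl⟩ := hv
    show g (t (g.symm (g v))) = g v
    rw [LinearEquiv.symm_apply_apply]
    exact congrArg g (hfix v hv)
  · intro v hv
    rw [he] at hv
    obtain ⟨v, hv, rfl⟩ := hv
    show g (t (g.symm (g v))) = -(g v)
    rw [LinearEquiv.symm_apply_apply, ← map_neg]
    exact congrArg g (hneg v hv)

end Cfsg.Agent.Block.Sakuma
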