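import Cfsg.Agent.Lib.Block.Sakuma.Relation

/-! The possible form values and the bound on the order of the product of two axial involutions. -/

set_option autoImplicit false

namespace Cfsg.Agent.Block.Sakuma

open Cfsg Cfsg.Axial

theorem classify {l m : ℝ}
    (F1 : -786432 * l ^ 4 - 15360 * l ^ 2 * m + 872448 * l ^ 3 - 3336 * l * m - 69120 * l ^ 2
      - 48 * m ^ 2 + 1800 * l + 501 / 8 * m - 117 / 8 = 0)
    (F5 : 402653184 / 7 * l ^ 5 + 19660800 / 7 * l ^ 3 * m - 453771264 / 7 * l ^ 4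
      + 70656 / 7 * l * m ^ 2 - 1195008 / 7 * l ^ 2 * m + 33103872 / 7 * l ^ 3
      + 124392 / 7 * l * m - 92160 * l ^ 2 + 2088 / 7 * m ^ 2 - 216 * l - 8703 / 28 * m
      + 351 / 28 = 0) :
    (l = 1 ∧ m = 1) ∨ (l = 1 / 8 ∧ m = 1) ∨ (l = 0 ∧ m = 1) ∨ (l = 13 / 256 ∧ m = 13 / 256) ∨
      (l = 1 / 64 ∧ m = 1 / 64) ∨ (l = 1 / 32 ∧ m = 0) ∨ (l = 1 / 64 ∧ m = 1 / 8) ∨
      (l = 3 / 128 ∧ m = 3 / 128) ∨ (l = 5 / 256 ∧ m = 13 / 256) := by
  set L1 : ℝ := -141557760 / 7 * l ^ 3 - 46448640 * l ^ 2 + 3430080 / 7 * l + 26325 / 7 with hL1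
  set L0 : ℝ := -36238786560 / 7 * l ^ 5 + 38220595200 / 7 * l ^ 4 - 1473085440 / 7 * l ^ 3
    - 48107520 / 7 * l ^ 2 + 2652480 / 7 * l - 26325 / 7 with hL0
  have hlin : L1 * m + L0 = 0 := by
    rw [hL1, hL0]
    linear_combination (70656 / 7 * l + 2088 / 7) * F1 + 48 * F5
  have hR : (l - 1 / 8) * l * (l - 13 / 256) * ((l - 1 / 64) * (l - 1 / 64)) * (l - 1 / 32)
      * (l - 3 / 128) * (l - 5 / 256) * (l - 1) = 0 := by
    have : (3939748954023709900800 : ℝ) * ((l - 1 / 8) * l * (l - 13 / 256)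
        * ((l - 1 / 64) * (l - 1 / 64)) * (l - 1 / 32) * (l - 3 / 128) * (l - 5 / 256) * (l - 1))
        = L1 ^ 2 * (-48 * m ^ 2 + (-15360 * l ^ 2 - 3336 * l + 501 / 8) * m
          + (-786432 * l ^ 4 + 872448 * l ^ 3 - 69120 * l ^ 2 + 1800 * l - 117 / 8))
          - (L1 * m + L0) * (-48 * (L1 * m - L0) + (-15360 * l ^ 2 - 3336 * l + 501 / 8) * L1) := by
      rw [hL1, hL0]; ring
    have e : (3939748954023709900800 : ℝ) * ((l - 1 / 8) * l * (l - 13 / 256)
        * ((l - 1 / 64) * (l - 1 / 64)) * (l - 1 / 32) * (l - 3 / 128) * (l - 5 / 256) * (l - 1))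
        = 0 := by
      rw [this, hlin]
      linear_combination L1 ^ 2 * F1
    exact (mul_eq_zero.mp e).resolve_left (by norm_num)
  clear_value L1 L0
  subst hL1 hL0
  rcases mul_eq_zero.mp hR with hR | h9
  · rcases mul_eq_zero.mp hR with hR | h8
    · rcases mul_eq_zero.mp hR with hR | h7
      · rcases mul_eq_zero.mp hR with hR | h6
        · rcases mul_eq_zero.mp hR with hR | h4
          · rcases mul_eq_zero.mp hR with hR | h3
            · rcases mul_eq_zero.mp hR with h1 | h2
              · have hl : l = 1 / 8 := by linarith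
                subst hl
                exact Or.inr (Or.inl ⟨rfl, by linarith⟩)
              · subst h2
                exact Or.inr (Or.inr (Or.inl ⟨rfl, by linarith⟩))
            · have hl : l = 13 / 256 := by linarith
              subst hl
              exact Or.inr (Or.inr (Or.inr (Or.inl ⟨rfl, by linarith⟩)))
          · rw [mul_self_eq_zero] at h4
            have hl : l = 1 / 64 := by linarith
            subst hl
            have hq : (m - 1 / 64) * (m - 1 / 8) = 0 := by linear_combination (-1 / 48 : ℝ) * F1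
            rcases mul_eq_zero.mp hq with h | h
            · exact Or.inr (Or.inr (Or.inr (Or.inr (Or.inl ⟨rfl, by linarith⟩))))
            · exact Or.inr (Or.inr (Or.inr (Or.inr (Or.inr (Or.inr (Or.inl ⟨rfl, by linarith⟩))))))
        · have hl : l = 1 / 32 := by linarith
          subst hl
          exact Or.inr (Or.inr (Or.inr (Or.inr (Or.inr (Or.inl ⟨rfl, by linarith⟩)))))
      · have hl : l = 3 / 128 := by linarith
        subst hl
        exact Or.inr (Or.inr (Or.inr (Or.inr (Or.inr (Or.inr (Or.inr (Or.inl ⟨rfl, by linarith⟩)))))))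
    · have hl : l = 5 / 256 := by linarith
      subst hl
      exact Or.inr (Or.inr (Or.inr (Or.inr (Or.inr (Or.inr (Or.inr (Or.inr ⟨rfl, by linarith⟩)))))))
  · have hl : l = 1 := by linarith
    subst hl
    exact Or.inl ⟨rfl, by linarith⟩

variable {V : Type*} [AddCommGroup V] [Module ℝ V]
  {mul : V →ₗ[ℝ] V →ₗ[ℝ] V} {B : LinearMap.BilinForm ℝ V}

/-- Unit vectors with form value one coincide. -/
theorem eq_of_form_one (hV : IsMajoranaAmbient mul B) {x y : V} (hx : B x x = 1) (hy : B y y = 1)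
    (hxy : B x y = 1) : x = y := by
  by_contra hne
  have := hV.2.2.1 (x - y) (sub_ne_zero.mpr hne)
  simp only [map_sub, LinearMap.sub_apply, hx, hy, hxy, hV.2.1 y x] at this
  linarith

theorem Pair.orbit_cases {t r : V ≃ₗ[ℝ] V} {a b : V} (h : Pair mul B t r a b) :
    b = a ∨ r a = a ∨ r (t b) = a ∨ t (r a) = r a ∨ r (t b) = t (r a) ∨
      r (t (r a)) = t (r a) := by
  have V := h.vals
  obtain ⟨eu, ev, ev', ew, ez, F1, F5⟩ := h.scalar_eqs rfl rfl rfl rfl rfl rfl rfl
  simp only [cA, cP] at ev ew ez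
  rw [ev'] at ew
  have key : B b a = 1 ∨ B (r a) a = 1 ∨ B (r (t b)) a = 1 ∨ B (t (r a)) (r a) = 1 ∨
      B (r (t b)) (t (r a)) = 1 ∨ B (r (t (r a))) (t (r a)) = 1 := by
    rw [V.bA, V.twoA, V.tA, V.n2, V.tN, V.fN]
    rcases classify F1 F5 with ⟨hl, hm⟩ | ⟨hl, hm⟩ | ⟨hl, hm⟩ | ⟨hl, hm⟩ | ⟨hl, hm⟩ | ⟨hl, hm⟩ |
      ⟨hl, hm⟩ | ⟨hl, hm⟩ | ⟨hl, hm⟩ <;> rw [hl, hm] at eu ev ew ez <;> norm_num at eu ev ew ez
    · exact Or.inl hl
    · exact Or.inr (Or.inl hm)
    · exact Or.inr (Or.inl hm)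
    · exact Or.inr (Or.inr (Or.inl (by linarith)))
    · exact Or.inr (Or.inr (Or.inl (by linarith)))
    · exact Or.inr (Or.inr (Or.inr (Or.inl (by linarith))))
    · exact Or.inr (Or.inr (Or.inr (Or.inl (by linarith))))
    · exact Or.inr (Or.inr (Or.inr (Or.inr (Or.inl (by linarith)))))
    · exact Or.inr (Or.inr (Or.inr (Or.inr (Or.inr (by linarith)))))
  have hA := h.first.amb
  rcases key with k | k | k | k | k | k
  · exact Or.inl (eq_of_form_one hA h.second.norm h.first.norm k)
  · exact Or.inr (Or.inl (eq_of_form_one hA V.two2 h.first.norm k))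
  · exact Or.inr (Or.inr (Or.inl (eq_of_form_one hA V.t3 h.first.norm k)))
  · exact Or.inr (Or.inr (Or.inr (Or.inl (eq_of_form_one hA V.nN V.two2 k))))
  · exact Or.inr (Or.inr (Or.inr (Or.inr (Or.inl (eq_of_form_one hA V.t3 V.nN k)))))
  · refine Or.inr (Or.inr (Or.inr (Or.inr (Or.inr (eq_of_form_one hA ?_ V.nN k)))))
    rw [h.second.map_form, V.nN]

theorem pow_eq_one_of_cases {G : Type*} [Group G] (t r : G) (ht : t * t = 1) (hr : r * r = 1)
    (h : r = t ∨ r * t * r = t ∨ r * t * r * t * r = t ∨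
      t * r * t * r * t = r * t * r ∨ r * t * r * t * r = t * r * t * r * t ∨
      r * t * r * t * r * t * r = t * r * t * r * t) :
    ∃ n : ℕ, 1 ≤ n ∧ n ≤ 6 ∧ (t * r) ^ n = 1 := by
  rcases h with e | e | e | e | e | e
  · exact ⟨1, le_rfl, by norm_num, by rw [pow_one, e, ht]⟩
  · exact ⟨2, by norm_num, by norm_num, by
      rw [show (t * r) ^ 2 = t * (r * t * r) by simp [pow_succ, mul_assoc], e, ht]⟩
  · exact ⟨3, by norm_num, by norm_num, by
      rw [show (t * r) ^ 3 = t * (r * t * r * t * r) by simp [pow_succ, mul_assoc], e, ht]⟩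
  · refine ⟨4, by norm_num, by norm_num, ?_⟩
    rw [show (t * r) ^ 4 = t * r * t * r * t * (r * t * r) by simp [pow_succ, mul_assoc], e,
      show r * t * r * (r * t * r) = r * t * (r * r) * t * r by simp [mul_assoc], hr, mul_one,
      mul_assoc r t t, ht, mul_one, hr]
  · refine ⟨5, by norm_num, by norm_num, ?_⟩
    rw [show (t * r) ^ 5 = t * r * t * r * t * (r * t * r * t * r) by simp [pow_succ, mul_assoc], e,
      show t * r * t * r * t * (t * r * t * r * t) = t * r * t * r * (t * t) * r * t * r * t by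
        simp [mul_assoc], ht, mul_one]
    rw [mul_assoc (t * r * t) r r, hr, mul_one, mul_assoc (t * r) t t, ht, mul_one,
      mul_assoc t r r, hr, mul_one, ht]
  · refine ⟨6, by norm_num, by norm_num, ?_⟩
    rw [show (t * r) ^ 6 = t * r * t * r * t * (r * t * r * t * r * t * r) by
        simp [pow_succ, mul_assoc], e,
      show t * r * t * r * t * (t * r * t * r * t) = t * r * t * r * (t * t) * r * t * r * t by
        simp [mul_assoc], ht, mul_one]
    rw [mul_assoc (t * r * t) r r, hr, mul_one, mul_assoc (t * r) t t, ht, mul_one,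
      mul_assoc t r r, hr, mul_one, ht]

/-- Sakuma's theorem: the product of the two involutions has order at most six. -/
theorem Pair.pow_le_six {t r : V ≃ₗ[ℝ] V} {a b : V} (h : Pair mul B t r a b) :
    ∃ n : ℕ, 1 ≤ n ∧ n ≤ 6 ∧ (t * r) ^ n = 1 := by
  have it : t⁻¹ = t := inv_eq_of_mul_eq_one_right h.first.mul_self'
  have ir : r⁻¹ = r := inv_eq_of_mul_eq_one_right h.second.mul_self'
  have cj : ∀ {s : V ≃ₗ[ℝ] V} {x : V}, Axis mul B s x →
      Axis mul B (t * s * t) (t x) ∧ Axis mul B (r * s * r) (r x) := fun {s x} hs =>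
    ⟨by simpa only [it] using hs.conj h.first.map_mul h.first.map_form,
      by simpa only [ir] using hs.conj h.second.map_mul h.second.map_form⟩
  have A2 := (cj h.first).2
  have Am := (cj h.second).1
  have An := (cj A2).1
  have A3 := (cj Am).2
  have A4 := (cj An).2
  refine pow_eq_one_of_cases t r h.first.mul_self' h.second.mul_self' ?_
  rcases h.orbit_cases with e | e | e | e | e | e
  · exact Or.inl ((e ▸ h.second).unique h.first)
  · exact Or.inr (Or.inl ((e ▸ A2).unique h.first))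
  · refine Or.inr (Or.inr (Or.inl ?_))
    have := (e ▸ A3).unique h.first
    simpa only [mul_assoc] using this
  · refine Or.inr (Or.inr (Or.inr (Or.inl ?_)))
    have := (e ▸ An).unique A2
    simpa only [mul_assoc] using this
  · refine Or.inr (Or.inr (Or.inr (Or.inr (Or.inl ?_))))
    have := (e ▸ A3).unique An
    simpa only [mul_assoc] using this
  · refine Or.inr (Or.inr (Or.inr (Or.inr (Or.inr ?_))))
    have := (e ▸ A4).unique An
    simpa only [mul_assoc] using this

end Cfsg.Agent.Block.Sakuma
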