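import Cfsg.Agent.Lib.Block.Sakuma.Step

/-! The linear relation obtained by computing one square at two centres, and its consequences. -/

set_option autoImplicit false

namespace Cfsg.Agent.Block.Sakuma

open Cfsg Cfsg.Axial

variable {V : Type*} [AddCommGroup V] [Module ℝ V]
  {mul : V →ₗ[ℝ] V →ₗ[ℝ] V} {B : LinearMap.BilinForm ℝ V}

namespace Axis

theorem form_sg_left {t : V ≃ₗ[ℝ] V} {a : V} (h : Axis mul B t a) (z w : V) :
    B (sg mul a z) w = B z (mul a w) - (B a w + B z w) / 32 := by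
  rw [sg, map_sub, map_smul, map_add, LinearMap.sub_apply, LinearMap.smul_apply, LinearMap.add_apply,
    h.comm a z, ← h.assoc, smul_eq_mul]
  ring

end Axis

/-- The polynomial coefficient of the relation. -/
noncomputable def cA (l m : ℝ) : ℝ := 32768 * l ^ 2 - 512 * l + 128 * m - 2

/-- The second polynomial coefficient of the relation. -/
noncomputable def cP (l : ℝ) : ℝ := 1792 * l - 35

namespace Pair

variable {t r : V ≃ₗ[ℝ] V} {a b : V} (h : Pair mul B t r a b)
include h

theorem relation : (cA (B a b) (B a (r a)) - cP (B a b)) • (a - b)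
    + (7 - cP (B a b)) • (r a - t b) + (7 : ℝ) • (t (r a) - r (t b))
    - (224 : ℝ) • (sg mul a (r a) - sg mul b (t b)) = 0 := by
  have e := h.mul_sg_sg
  have e' := h.swap.mul_sg_sg
  rw [h.sg_swap, h.first.symm b a, h.form_y_ty] at e'
  simp only [cA, cP]
  linear_combination (norm := module) (196608 / 7 : ℝ) • e' - (196608 / 7 : ℝ) • e

theorem form_a_So : B a (sg mul b (t b)) = 15 / 16 * B a b + 1 / 32 * B a (r a) - 1 / 32 := by
  have e : B a (mul b (t b)) = B (mul a b) (t b) := h.first.assoc a b (t b)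
  rw [mul_eq_sg a b, mul_eq_sg b (t b)] at e
  simp only [map_add, map_smul, LinearMap.add_apply, LinearMap.smul_apply, smul_eq_mul,
    h.first.form_map a b h.first.fix_self, h.first.form_map _ b (h.first.fix_sg b), h.form_y_ty] at e
  rw [h.first.symm (sg mul a b) b, h.form_y_sg] at e
  linear_combination e

theorem form_b_Se : B b (sg mul a (r a)) = 15 / 16 * B a b + 1 / 32 * B a (r a) - 1 / 32 := by
  have e := h.swap.form_a_So
  rwa [h.first.symm b a, h.form_y_ty] at e

theorem fix_t_So : t (sg mul b (t b)) = sg mul b (t b) := by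
  rw [sg, map_sub, map_smul, map_add, h.first.map_mul, h.first.invol, h.first.comm (t b) b,
    add_comm (t b) b]

theorem fix_r_Se : r (sg mul a (r a)) = sg mul a (r a) := h.swap.fix_t_So

theorem fix_r_sg : r (sg mul a b) = sg mul a b := by rw [← h.sg_swap]; exact h.second.fix_sg a

end Pair

/-- The form values of the vectors in the relation. -/
structure Vals (mul : V →ₗ[ℝ] V →ₗ[ℝ] V) (B : LinearMap.BilinForm ℝ V) (t r : V ≃ₗ[ℝ] V)
    (a b : V) (l m u v v' w z c s q : ℝ) : Prop where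
  aa : B a a = 1
  ab : B a b = l
  a2 : B a (r a) = m
  am : B a (t b) = l
  an : B a (t (r a)) = m
  a3 : B a (r (t b)) = u
  twoA : B (r a) a = m
  twoB : B (r a) b = l
  two2 : B (r a) (r a) = 1
  twoM : B (r a) (t b) = u
  twoN : B (r a) (t (r a)) = v
  two3 : B (r a) (r (t b)) = l
  mA : B (t b) a = l
  mB : B (t b) b = m
  m2 : B (t b) (r a) = u
  mM : B (t b) (t b) = 1
  mN : B (t b) (t (r a)) = l
  m3 : B (t b) (r (t b)) = v'
  nA : B (t (r a)) a = m
  nB : B (t (r a)) b = u
  n2 : B (t (r a)) (r a) = v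
  nM : B (t (r a)) (t b) = l
  nN : B (t (r a)) (t (r a)) = 1
  n3 : B (t (r a)) (r (t b)) = w
  bA : B b a = l
  b2 : B b (r a) = l
  bM : B b (t b) = m
  bN : B b (t (r a)) = u
  b3 : B b (r (t b)) = m
  tA : B (r (t b)) a = u
  tB : B (r (t b)) b = m
  t2 : B (r (t b)) (r a) = l
  tM : B (r (t b)) (t b) = v'
  tN : B (r (t b)) (t (r a)) = w
  t3 : B (r (t b)) (r (t b)) = 1
  fA : B (r (t (r a))) a = v
  fB : B (r (t (r a))) b = u
  f2 : B (r (t (r a))) (r a) = m
  fM : B (r (t (r a))) (t b) = w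
  fN : B (r (t (r a))) (t (r a)) = z
  f3 : B (r (t (r a))) (r (t b)) = l
  aC : B a (sg mul a b) = c
  twoC : B (r a) (sg mul a b) = c
  tC : B (r (t b)) (sg mul a b) = c
  aE : B a (sg mul a (r a)) = s
  bE : B b (sg mul a (r a)) = q
  twoE : B (r a) (sg mul a (r a)) = s
  mE : B (t b) (sg mul a (r a)) = q
  nE : B (t (r a)) (sg mul a (r a)) = s
  tE : B (r (t b)) (sg mul a (r a)) = q
  fE : B (r (t (r a))) (sg mul a (r a)) = s
  aO : B a (sg mul b (t b)) = q
  bO : B b (sg mul b (t b)) = s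
  twoO : B (r a) (sg mul b (t b)) = q
  mO : B (t b) (sg mul b (t b)) = s
  nO : B (t (r a)) (sg mul b (t b)) = q
  tO : B (r (t b)) (sg mul b (t b)) = s
  fO : B (r (t (r a))) (sg mul b (t b)) = q

namespace Pair

variable {t r : V ≃ₗ[ℝ] V} {a b : V} (h : Pair mul B t r a b)
include h

theorem vals : Vals mul B t r a b (B a b) (B a (r a)) (B a (r (t b))) (B (r a) (t (r a)))
    (B (t b) (r (t b))) (B (t (r a)) (r (t b))) (B (t (r a)) (r (t (r a))))
    (31 / 32 * B a b - 1 / 32) (31 / 32 * B a (r a) - 1 / 32)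
    (15 / 16 * B a b + 1 / 32 * B a (r a) - 1 / 32) := by
  have hs := h.first.symm
  have ft := h.first.map_form
  have fr := h.second.map_form
  have it := h.first.invol
  have ir := h.second.invol
  have ta := h.first.fix_self
  have rb := h.second.fix_self
  have Rm : ∀ x y, B (r x) y = B x (r y) := fun x y => by rw [← fr (r x) y, ir]
  have Tm : ∀ x y, B (t x) y = B x (t y) := fun x y => by rw [← ft (t x) y, it]
  have m1 : B b (t b) = B a (r a) := h.form_y_ty
  have u1 : B (r a) (t b) = B a (r (t b)) := Rm a (t b)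
  have b2 : B b (r a) = B a b := by rw [← Rm, rb, hs]
  have am : B a (t b) = B a b := by rw [← Tm, ta]
  have an : B a (t (r a)) = B a (r a) := by rw [← Tm, ta]
  have mn : B (t b) (t (r a)) = B a b := by rw [ft, b2]
  have bn : B b (t (r a)) = B a (r (t b)) := by rw [← Tm, hs, u1]
  have b3 : B b (r (t b)) = B a (r a) := by rw [← Rm, rb, m1]
  have t23 : B (r a) (r (t b)) = B a b := by rw [fr, am]
  have aE : B a (sg mul a (r a)) = 31 / 32 * B a (r a) - 1 / 32 := h.first.form_sg (r a)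
  have bO : B b (sg mul b (t b)) = 31 / 32 * B a (r a) - 1 / 32 := by rw [h.second.form_sg, m1]
  have twoE : B (r a) (sg mul a (r a)) = 31 / 32 * B a (r a) - 1 / 32 := by
    rw [Rm, h.fix_r_Se, aE]
  have nE : B (t (r a)) (sg mul a (r a)) = 31 / 32 * B a (r a) - 1 / 32 := by
    rw [Tm, h.first.fix_sg, twoE]
  have mO : B (t b) (sg mul b (t b)) = 31 / 32 * B a (r a) - 1 / 32 := by rw [Tm, h.fix_t_So, bO]
  have twoO : B (r a) (sg mul b (t b)) = 15 / 16 * B a b + 1 / 32 * B a (r a) - 1 / 32 := by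
    rw [Rm, h.second.fix_sg, h.form_a_So]
  have nO : B (t (r a)) (sg mul b (t b)) = 15 / 16 * B a b + 1 / 32 * B a (r a) - 1 / 32 := by
    rw [Tm, h.fix_t_So, twoO]
  have mE : B (t b) (sg mul a (r a)) = 15 / 16 * B a b + 1 / 32 * B a (r a) - 1 / 32 := by
    rw [Tm, h.first.fix_sg, h.form_b_Se]
  exact {
    aa := h.first.norm
    ab := rfl
    a2 := rfl
    am := am
    an := an
    a3 := rfl
    twoA := hs _ _
    twoB := by rw [hs, b2]
    two2 := by rw [fr, h.first.norm]
    twoM := u1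
    twoN := rfl
    two3 := t23
    mA := by rw [hs, am]
    mB := by rw [hs, m1]
    m2 := by rw [hs, u1]
    mM := by rw [ft, h.second.norm]
    mN := mn
    m3 := rfl
    nA := by rw [hs, an]
    nB := by rw [hs, bn]
    n2 := hs _ _
    nM := by rw [hs, mn]
    nN := by rw [ft, fr, h.first.norm]
    n3 := rfl
    bA := hs _ _
    b2 := b2
    bM := m1
    bN := bn
    b3 := b3
    tA := hs _ _
    tB := by rw [hs, b3]
    t2 := by rw [hs, t23]
    tM := hs _ _
    tN := hs _ _
    t3 := by rw [fr, ft, h.second.norm]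
    fA := by rw [Rm, hs]
    fB := by rw [Rm, rb, hs, bn]
    f2 := by rw [fr, hs, an]
    fM := by rw [Rm]
    fN := hs _ _
    f3 := by rw [fr, hs, mn]
    aC := h.first.form_sg b
    twoC := by rw [Rm, h.fix_r_sg, h.first.form_sg]
    tC := by rw [Rm, h.fix_r_sg, h.form_ty_sg]
    aE := aE
    bE := h.form_b_Se
    twoE := twoE
    mE := mE
    nE := nE
    tE := by rw [Rm, h.fix_r_Se, mE]
    fE := by rw [Rm, h.fix_r_Se, nE]
    aO := h.form_a_So
    bO := bO
    twoO := twoO
    mO := mO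
    nO := nO
    tO := by rw [Rm, h.second.fix_sg, mO]
    fO := by rw [Rm, h.second.fix_sg, nO] }

/-- All scalar consequences needed for the classification. -/
theorem scalar_eqs {l m u v v' w z : ℝ} (hl : B a b = l) (hm : B a (r a) = m)
    (hu : B a (r (t b)) = u) (hv : B (r a) (t (r a)) = v) (hv' : B (t b) (r (t b)) = v')
    (hw : B (t (r a)) (r (t b)) = w) (hz : B (t (r a)) (r (t (r a))) = z) :
    7 * u = -32768 * l ^ 3 - 1920 * l * m + 36864 * l ^ 2 - 2169 * l - 33 * m + 33 ∧
    7 * (v - l) = -((cA l m - cP l) * (m - l) + (7 - cP l) * (1 - u)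
      - 224 * (31 / 32 * m - 15 / 16 * l - 1 / 32 * m)) ∧
    v' = v ∧
    7 * (w - 1) = -((cA l m - cP l) * (u - m) + (7 - cP l) * (l - v')
      - 224 * (15 / 16 * l + 1 / 32 * m - 31 / 32 * m)) ∧
    7 * (z - l) = -((cA l m - cP l) * (v - u) + (7 - cP l) * (m - w)
      - 224 * (31 / 32 * m - 15 / 16 * l - 1 / 32 * m)) ∧
    -786432 * l ^ 4 - 15360 * l ^ 2 * m + 872448 * l ^ 3 - 3336 * l * m - 69120 * l ^ 2
      - 48 * m ^ 2 + 1800 * l + 501 / 8 * m - 117 / 8 = 0 ∧
    402653184 / 7 * l ^ 5 + 19660800 / 7 * l ^ 3 * m - 453771264 / 7 * l ^ 4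
      + 70656 / 7 * l * m ^ 2 - 1195008 / 7 * l ^ 2 * m + 33103872 / 7 * l ^ 3
      + 124392 / 7 * l * m - 92160 * l ^ 2 + 2088 / 7 * m ^ 2 - 216 * l - 8703 / 28 * m
      + 351 / 28 = 0 := by
  subst hl hm hu hv hv' hw hz
  have V := h.vals
  set l := B a b
  set m := B a (r a)
  set u := B a (r (t b))
  set v := B (r a) (t (r a))
  set v' := B (t b) (r (t b))
  set w := B (t (r a)) (r (t b))
  set z := B (t (r a)) (r (t (r a)))
  have hD := h.relation
  have d0 := congrArg (B a) hD
  have d2 := congrArg (B (r a)) hD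
  have dm := congrArg (B (t b)) hD
  have d3 := congrArg (B (r (t b))) hD
  have d4 := congrArg (B (r (t (r a)))) hD
  simp only [map_add, map_sub, map_smul, map_zero, smul_eq_mul, V.aa, V.ab, V.a2, V.am, V.an, V.a3,
    V.twoA, V.twoB, V.two2, V.twoM, V.twoN, V.two3, V.mA, V.mB, V.m2, V.mM, V.mN, V.m3, V.tA, V.tB,
    V.t2, V.tM, V.tN, V.t3, V.fA, V.fB, V.f2, V.fM, V.fN, V.f3, V.aE, V.twoE, V.mE, V.tE, V.fE,
    V.aO, V.twoO, V.mO, V.tO, V.fO] at d0 d2 dm d3 d4
  have gu : u = (-32768 * l ^ 3 - 1920 * l * m + 36864 * l ^ 2 - 2169 * l - 33 * m + 33) / 7 := by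
    simp only [cA, cP] at d0
    linear_combination (-1 / 7 : ℝ) * d0
  have gv : v = l - ((cA l m - cP l) * (m - l) + (7 - cP l) * (1 - u)
      - 224 * (31 / 32 * m - 15 / 16 * l - 1 / 32 * m)) / 7 := by
    linear_combination (1 / 7 : ℝ) * d2
  have gv' : v' = v := by linear_combination (-1 / 7 : ℝ) * dm - (1 / 7 : ℝ) * d2
  have gw : w = 1 - ((cA l m - cP l) * (u - m) + (7 - cP l) * (l - v')
      - 224 * (15 / 16 * l + 1 / 32 * m - 31 / 32 * m)) / 7 := by
    linear_combination (1 / 7 : ℝ) * d3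
  refine ⟨by linear_combination (7 : ℝ) * gu, by linear_combination d2, gv',
    by linear_combination d3, by linear_combination d4, ?_, ?_⟩
  · have eSS : B (sg mul a (r a)) (sg mul a (r a)) = 7 / 32 * (31 / 32 * m - 1 / 32)
        + 7 / 2048 * (1 + v) + (3 / 4 * m - 25 / 1024) * m - (31 / 32 * m - 1 / 32) / 16 := by
      rw [h.first.form_sg_left, h.first.mul_sg]
      simp only [map_add, map_smul, smul_eq_mul, V.aE, V.twoE, V.two2, V.twoN, V.twoA, V.a2]
      ring
    have eSO : B (sg mul a (r a)) (sg mul b (t b)) =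
        (-32 / 3 * l ^ 2 + 5 / 3 * l - 1 / 24 * m - 127 / 3072) * m
        + (1 / 6 * l - 19 / 3072) * (l + u) + 7 / 6144 * (1 + v)
        + (32 / 3 * l - 19 / 48) * (31 / 32 * l - 1 / 32) + 7 / 96 * (31 / 32 * m - 1 / 32)
        - (15 / 16 * l + 1 / 32 * m - 1 / 32) / 16 := by
      rw [h.first.form_sg_left, h.mul_a_So]
      simp only [map_add, map_smul, smul_eq_mul, V.a2, V.twoA, V.twoB, V.twoM, V.two2, V.twoN,
        V.twoC, V.twoE, V.aO, V.twoO]
      ring
    have dS := congrArg (B (sg mul a (r a))) hD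
    simp only [map_add, map_sub, map_smul, map_zero, smul_eq_mul, h.first.symm (sg mul a (r a)) a,
      h.first.symm (sg mul a (r a)) b, h.first.symm (sg mul a (r a)) (r a),
      h.first.symm (sg mul a (r a)) (t b), h.first.symm (sg mul a (r a)) (t (r a)),
      h.first.symm (sg mul a (r a)) (r (t b)), V.aE, V.bE, V.twoE, V.mE, V.nE, V.tE,
      eSS, eSO] at dS
    rw [gv, gu] at dS
    simp only [cA, cP] at dS
    linear_combination dS
  · have hw' : mul (r (t b)) (r (t b)) = r (t b) := by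
      rw [← h.second.map_mul, ← h.first.map_mul, h.second.idem]
    have p3 : B (mul a (r (t b))) (r (t b)) = u := by rw [← h.first.assoc, hw']
    have dF := congrArg (fun x => B (r (t b)) (mul a x)) hD
    simp only [map_add, map_sub, map_smul, map_zero, smul_eq_mul,
      h.first.symm (r (t b)) (mul a (r (t b))), p3, h.first.idem, h.first.mul_sg, h.mul_a_So,
      mul_eq_sg a b, mul_eq_sg a (t b), mul_eq_sg a (r a), mul_eq_sg a (t (r a)), h.first.sg_map,
      V.tA, V.tB, V.t2, V.tM, V.tN, V.tC, V.tE] at dF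
    rw [gw, gv', gv, gu] at dF
    simp only [cA, cP] at dF
    linear_combination dF

end Pair

end Cfsg.Agent.Block.Sakuma
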