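import Cfsg.Agent.Lib.Block.Sakuma.Axis

/-! Products computed around the centre `a` of the algebra generated by two axes `a` and `y`. -/

set_option autoImplicit false

namespace Cfsg.Agent.Block.Sakuma

open Cfsg Cfsg.Axial

variable {V : Type*} [AddCommGroup V] [Module ℝ V]
  {mul : V →ₗ[ℝ] V →ₗ[ℝ] V} {B : LinearMap.BilinForm ℝ V}

theorem mul_comb (hc : ∀ u v : V, mul u v = mul v u) (x y z : V) (p q r p' q' r' : ℝ) :
    mul (p • x + q • y + r • z) (p' • x + q' • y + r' • z) =
      (p * p') • mul x x + (p * q' + q * p') • mul x y + (p * r' + r * p') • mul z x +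
      (q * q') • mul y y + (q * r' + r * q') • mul z y + (r * r') • mul z z := by
  simp only [map_add, map_smul, LinearMap.add_apply, LinearMap.smul_apply]
  rw [hc y x, hc x z, hc y z]
  module

theorem form_comb (hs : ∀ u v : V, B u v = B v u) (x y z : V) (p q r : ℝ) :
    B (p • x + q • y + r • z) (p • x + q • y + r • z) =
      p ^ 2 * B x x + 2 * p * q * B x y + 2 * p * r * B z x + q ^ 2 * B y y + 2 * q * r * B z y
        + r ^ 2 * B z z := by
  simp only [map_add, map_smul, LinearMap.add_apply, LinearMap.smul_apply, smul_eq_mul]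
  rw [hs y x, hs x z, hs y z]
  ring

/-- Two axes, the images of each under the other's involution, and the form values between them. -/
structure Pair (mul : V →ₗ[ℝ] V →ₗ[ℝ] V) (B : LinearMap.BilinForm ℝ V) (t r : V ≃ₗ[ℝ] V)
    (a y : V) : Prop where
  first : Axis mul B t a
  second : Axis mul B r y

namespace Pair

variable {t r : V ≃ₗ[ℝ] V} {a y : V} (h : Pair mul B t r a y)
include h

theorem swap : Pair mul B r t y a := ⟨h.second, h.first⟩

theorem sg_swap : sg mul y a = sg mul a y := sg_comm h.first.amb y a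

/-- The product of `y` with `a y - (a + y) / 32`. -/
theorem mul_y_sg : mul y (sg mul a y) = (7 / 32 : ℝ) • sg mul a y + (7 / 2048 : ℝ) • (a + r a)
    + (3 / 4 * B a y - 25 / 1024 : ℝ) • y := by
  have := h.second.mul_sg a
  rwa [h.sg_swap, h.first.symm y a] at this

theorem mul_ty_sg : mul (t y) (sg mul a y) = (7 / 32 : ℝ) • sg mul a y
    + (7 / 2048 : ℝ) • (a + t (r a)) + (3 / 4 * B a y - 25 / 1024 : ℝ) • t y := by
  have := congrArg t h.mul_y_sg
  simpa only [h.first.map_mul, map_add, map_smul, h.first.fix_sg, h.first.fix_self] using this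

theorem form_y_sg : B y (sg mul a y) = 31 / 32 * B a y - 1 / 32 := by
  rw [← h.sg_swap, h.second.form_sg, h.first.symm y a]

theorem form_ty_sg : B (t y) (sg mul a y) = 31 / 32 * B a y - 1 / 32 := by
  rw [← h.form_y_sg, ← h.first.map_form y, h.first.fix_sg]

/-- The squared length of `y + t y` is governed by the form value between `a` and `r a`. -/
theorem form_y_ty : B y (t y) = B a (r a) := by
  have e : B (mul a y) (sg mul a y) = B a (mul y (sg mul a y)) := (h.first.assoc a y _).symm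
  have e' : B (mul a y) (sg mul a y) = B y (mul a (sg mul a y)) := by
    rw [h.first.comm a y]; exact (h.first.assoc y a _).symm
  rw [h.mul_y_sg] at e
  rw [h.first.mul_sg] at e'
  simp only [map_add, map_smul, smul_eq_mul, h.first.norm, h.second.norm, h.form_y_sg,
    h.first.form_sg, h.first.symm y a] at e e'
  linear_combination (2048 / 7 : ℝ) * (e - e')

theorem mul_a_X : mul a (y + t y) = (2 : ℝ) • sg mul a y + (1 / 16 : ℝ) • a
    + (1 / 32 : ℝ) • (y + t y) := by
  rw [map_add, mul_eq_sg a y, mul_eq_sg a (t y), h.first.sg_map]; module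

theorem mul_a_P : mul a (r a + t (r a)) = (2 : ℝ) • sg mul a (r a) + (1 / 16 : ℝ) • a
    + (1 / 32 : ℝ) • (r a + t (r a)) := by
  rw [map_add, mul_eq_sg a (r a), mul_eq_sg a (t (r a)), h.first.sg_map]; module

theorem mul_X_X : mul (y + t y) (y + t y) = (17 / 16 : ℝ) • (y + t y)
    + (2 : ℝ) • sg mul y (t y) := by
  have hy : mul (t y) (t y) = t y := by rw [← h.first.map_mul, h.second.idem]
  simp only [map_add, LinearMap.add_apply]
  rw [h.second.idem, hy, h.first.comm (t y) y, mul_eq_sg y (t y)]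
  module

theorem mul_X_sg : mul (y + t y) (sg mul a y) = (7 / 16 : ℝ) • sg mul a y
    + (7 / 2048 : ℝ) • ((2 : ℝ) • a + (r a + t (r a)))
    + (3 / 4 * B a y - 25 / 1024 : ℝ) • (y + t y) := by
  rw [map_add, LinearMap.add_apply, h.mul_y_sg, h.mul_ty_sg]; module

/-- The `0`-eigenvector built from `y + t y` and `a y`. -/
theorem eigen0 : mul a ((7 / 16 : ℝ) • (y + t y) + (-4 : ℝ) • sg mul a y
    + (3 * B a y - 1 / 8 : ℝ) • a) = 0 := by
  rw [map_add, map_add, map_smul, map_smul, map_smul, h.mul_a_X, h.first.mul_sg,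
    h.first.idem]
  module

/-- The `1/4`-eigenvector built from `y + t y` and `a y`. -/
theorem eigen4 : mul a ((1 / 16 : ℝ) • (y + t y) + (4 : ℝ) • sg mul a y
    + (1 / 8 - 4 * B a y : ℝ) • a) = (1 / 4 : ℝ) • ((1 / 16 : ℝ) • (y + t y)
    + (4 : ℝ) • sg mul a y + (1 / 8 - 4 * B a y : ℝ) • a) := by
  rw [map_add, map_add, map_smul, map_smul, map_smul, h.mul_a_X, h.first.mul_sg,
    h.first.idem]
  module

theorem form_sg_sg : B (sg mul a y) (sg mul a y) = 7 / 32 * (31 / 32 * B a y - 1 / 32)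
    + 7 / 2048 * (1 + B a (r a)) + (3 / 4 * B a y - 25 / 1024) * B a y
    - (31 / 32 * B a y - 1 / 32) / 16 := by
  have e : B (mul a y) (sg mul a y) = B a (mul y (sg mul a y)) := (h.first.assoc a y _).symm
  rw [h.mul_y_sg, mul_eq_sg a y] at e
  simp only [map_add, map_smul, LinearMap.add_apply, LinearMap.smul_apply, smul_eq_mul,
    h.first.norm, h.first.form_sg, h.form_y_sg, h.first.symm (sg mul a y) a] at e
  linear_combination e

theorem form_v : B ((1 / 16 : ℝ) • (y + t y) + (4 : ℝ) • sg mul a y + (1 / 8 - 4 * B a y : ℝ) • a)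
    ((1 / 16 : ℝ) • (y + t y) + (4 : ℝ) • sg mul a y + (1 / 8 - 4 * B a y : ℝ) • a)
      = B a (r a) / 16 - 1 / 16 + 4 * B a y - 4 * B a y ^ 2 := by
  rw [form_comb h.first.symm]
  have hX : B (y + t y) (y + t y) = 2 + 2 * B a (r a) := by
    simp only [map_add, LinearMap.add_apply, h.first.map_form, h.second.norm,
      h.first.symm (t y) y, h.form_y_ty]
    ring
  have hXs : B (y + t y) (sg mul a y) = 2 * (31 / 32 * B a y - 1 / 32) := by
    rw [map_add, LinearMap.add_apply, h.form_y_sg, h.form_ty_sg]; ring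
  have haX : B a (y + t y) = 2 * B a y := by
    rw [map_add, h.first.form_map a y h.first.fix_self]; ring
  rw [hX, hXs, haX, h.form_sg_sg, h.first.norm, h.first.form_sg]
  ring

/-- The product of `a` with `y (t y) - (y + t y) / 32`. -/
theorem mul_a_So : mul a (sg mul y (t y)) =
    (-32 / 3 * B a y ^ 2 + 5 / 3 * B a y - 1 / 24 * B a (r a) - 127 / 3072 : ℝ) • a
    + (1 / 6 * B a y - 19 / 3072 : ℝ) • (y + t y) + (7 / 6144 : ℝ) • (r a + t (r a))
    + (32 / 3 * B a y - 19 / 48 : ℝ) • sg mul a y + (7 / 96 : ℝ) • sg mul a (r a) := by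
  have e1 := h.first.fus00 h.eigen0
  have e3 := h.first.fus44 h.eigen4
  rw [h.form_v] at e3
  rw [mul_comb h.first.comm, h.mul_X_X, h.mul_X_sg, h.mul_a_X, h.first.mul_sg, h.first.idem]
    at e1 e3
  have hX := h.mul_a_X
  have hP := h.mul_a_P
  simp only [map_add] at hX hP
  simp only [map_add, map_smul, h.first.idem, h.first.mul_sg] at e1 e3
  linear_combination (norm := module) (8 / 3 : ℝ) • e1 - (8 / 3 : ℝ) • e3
    - (8 / 3 : ℝ) • ((17 / 16 : ℝ) * (3 / 16) + (3 / 4 * B a y - 25 / 1024) * (-4)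
      + (25 * B a y - 1) / 8 * (1 / 32) + 8 * B a y * (7 / 2048)) • hX - (8 / 3 : ℝ) • (7 / 2048 * (-4 : ℝ)) • hP

/-- The square of `a y - (a + y) / 32`. -/
theorem mul_sg_sg : mul (sg mul a y) (sg mul a y) =
    (7 / 6 * B a y ^ 2 - 7 / 384 * B a y + 7 / 1536 * B a (r a) - 7 / 98304 : ℝ) • a
    + (49 / 768 * B a y - 245 / 196608 : ℝ) • (y + t y)
    + (49 / 196608 : ℝ) • (r a + t (r a))
    + (-5 / 12 * B a y - 13 / 1536 : ℝ) • sg mul a y + (-7 / 1536 : ℝ) • sg mul a (r a)
    + (7 / 2048 : ℝ) • sg mul y (t y) := by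
  have e1 := h.first.fus00 h.eigen0
  have e2 := h.first.fus04 h.eigen0 h.eigen4
  rw [mul_comb h.first.comm, h.mul_X_X, h.mul_X_sg, h.mul_a_X, h.first.mul_sg, h.first.idem]
    at e1 e2
  have hX := h.mul_a_X
  have hP := h.mul_a_P
  simp only [map_add] at hX hP
  simp only [map_add, map_smul, h.first.idem, h.first.mul_sg, h.mul_a_So] at e1 e2
  linear_combination (norm := module) (1 / 4 : ℝ) • e1 + (1 / 4 : ℝ) • e2
    - (1 / 4 : ℝ) • ((49 / 256 + 7 / 256 : ℝ) * (17 / 16) + (3 / 4 * B a y - 25 / 1024) * (-7 / 2 + 3 / 2)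
      + (3 * B a y - 1 / 8) * (7 / 8) * (1 / 32) - 8 * (3 * B a y - 1 / 8) * (7 / 2048)
      + (7 * (1 / 8 - 4 * B a y) + (3 * B a y - 1 / 8)) / 16 * (1 / 32)
      + 4 * ((3 * B a y - 1 / 8) - (1 / 8 - 4 * B a y)) * (7 / 2048)) • hX
    - (1 / 4 : ℝ) • (7 / 2048 * (-7 / 2 + 3 / 2) : ℝ) • hP

end Pair

end Cfsg.Agent.Block.Sakuma
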